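import Groth.Agent.PicH127.Cocycle
import Groth.Agent.PicLib.CocycleGlue
import Groth.Agent.PicLib.PullbackGen
import Groth.Agent.AmpleLib.Relative
import Groth.Agent.PnEmb.Ample
import Groth.Agent.VarietyLib.StarGlue
import Groth.Prelude.Def_UnitsSh
import Groth.Prelude.Def_PicGrp

/-!
# `Pic Z` and `H¹(X, f_* O_Z^×)`

`Rel f L ξ`: `L` has generators on the preimages of an open cover of `X`, whose transition units form a
cocycle of class `ξ`.
-/

set_option autoImplicit false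
set_option linter.style.haveILetI false
set_option backward.isDefEq.respectTransparency.types false
set_option backward.isDefEq.respectTransparency false

universe u

open CategoryTheory CategoryTheory.Limits AlgebraicGeometry Opposite TopologicalSpace
open Groth.Agent.Coherent Groth.Agent.PicLib Groth.Agent.AmpleLib Groth.Agent.PicDef15

namespace Groth.Agent.PicH127

variable {Z X : Scheme.{u}} (f : Z ⟶ X)

/-- The direct image of the units. -/
noncomputable abbrev PU : CohTop.Ab X.toTopCat := (CohTop.push f.base).obj (UnitsSh.unitsAb Z)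

/-- The units map into the direct image. -/
noncomputable abbrev comap' : PU (𝟙 X) ⟶ PU f := UnitsSh.comap f

/-- A section of `f_* O^×` as a unit. -/
noncomputable def ofU {U : X.Opens} (s : (PU f).obj.obj (op U)) : Γ(Z, f ⁻¹ᵁ U)ˣ := UnitsSh.unitOfSect s

/-- A unit as a section of `f_* O^×`. -/
noncomputable def toU {U : X.Opens} (v : Γ(Z, f ⁻¹ᵁ U)ˣ) : (PU f).obj.obj (op U) :=
  UnitsSh.sectOfUnit (O := Z.presheaf) v

theorem ofU_toU {U : X.Opens} (v : Γ(Z, f ⁻¹ᵁ U)ˣ) : ofU f (toU f v) = v := rfl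

theorem ofU_injective (U : X.Opens) : Function.Injective (ofU f (U := U)) := fun _ _ h =>
  congrArg (toU f) h

theorem ofU_add {U : X.Opens} (s t : (PU f).obj.obj (op U)) : ofU f (s + t) = ofU f s * ofU f t := rfl

theorem ofU_neg {U : X.Opens} (s : (PU f).obj.obj (op U)) : ofU f (-s) = (ofU f s)⁻¹ := rfl

theorem ofU_sub {U : X.Opens} (s t : (PU f).obj.obj (op U)) : ofU f (s - t) = ofU f s * (ofU f t)⁻¹ := by
  rw [sub_eq_add_neg, ofU_add, ofU_neg]

theorem ofU_zero {U : X.Opens} : ofU f (0 : (PU f).obj.obj (op U)) = 1 := rfl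

theorem ofU_res {U V : X.Opens} (h : V ≤ U) (s : (PU f).obj.obj (op U)) :
    (ofU f (resA (PU f) h s) : Γ(Z, f ⁻¹ᵁ V)) = PicLib.res (f.preimage_mono h) (ofU f s : Γ(Z, f ⁻¹ᵁ U)) :=
  rfl

theorem ofU_comap {U : X.Opens} (s : (PU (𝟙 X)).obj.obj (op U)) :
    (ofU f ((comap' f).hom.app (op U) s) : Γ(Z, f ⁻¹ᵁ U)) = f.app U (show Γ(X, U) from (ofU (𝟙 X) s).val) := rfl

/-- Generators of `L` on preimages, with transition cocycle of class `ξ`. -/
def Rel (L : Z.Modules) (ξ : Sheaf.H (PU f) 1) : Prop :=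
  ∃ (ι : Type u) (W : ι → X.Opens) (s : ∀ i, Γ(L, f ⁻¹ᵁ W i)) (c : ∀ i j, (PU f).obj.obj (op (W i ⊓ W j))),
    (∀ i, IsGen L (f ⁻¹ᵁ W i) (s i)) ∧
    (∀ i j, resM L (f.preimage_mono inf_le_left) (s i) =
      (ofU f (c i j) : Γ(Z, f ⁻¹ᵁ (W i ⊓ W j))) • resM L (f.preimage_mono inf_le_right) (s j)) ∧
    IsClass W c ξ

/-- Invertible modules trivialise on preimages of opens. -/
def HasTriv : Prop :=
  ∀ L : Z.Modules, PicF.IsInvertible L → ∃ (ι : Type u) (W : ι → X.Opens) (_ : iSup W = ⊤)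
    (s : ∀ i, Γ(L, f ⁻¹ᵁ W i)), ∀ i, IsGen L (f ⁻¹ᵁ W i) (s i)

theorem hasTriv_id : HasTriv (𝟙 X) := fun L hL => by
  obtain ⟨U, s, hm, hs⟩ := exists_cover hL
  exact ⟨X, U, top_le_iff.1 fun x _ => Opens.mem_iSup.2 ⟨x, hm x⟩, s, hs⟩

theorem isGen_of_iso' {L M : Z.Modules} (e : L ≅ M) {U : Z.Opens} {s : Γ(L, U)} (hs : IsGen L U s) :
    IsGen M U (e.hom.app U s) := fun V hV => by
  have hb := ConcreteCategory.bijective_of_isIso (e.hom.app V)
  convert hb.comp (hs V hV) using 1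
  funext r
  show r • resM M hV (e.hom.app U s) = e.hom.app V (r • resM L hV s)
  rw [← app_resM, Scheme.Modules.Hom.app_smul]

variable {f}

section SameCover

variable {L : Z.Modules} {ι : Type u} {W : ι → X.Opens}

theorem exists_units {s t : ∀ i, Γ(L, f ⁻¹ᵁ W i)} (hs : ∀ i, IsGen L _ (s i)) (ht : ∀ i, IsGen L _ (t i)) :
    ∃ e : ∀ i, (PU f).obj.obj (op (W i)), ∀ i, s i = (ofU f (e i) : Γ(Z, f ⁻¹ᵁ W i)) • t i := by
  refine ⟨fun i => toU f ((ht i).isUnit_coef (hs i)).unit, fun i => ?_⟩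
  rw [ofU_toU, IsUnit.unit_spec]
  conv_lhs => rw [← (ht i).coef_spec le_rfl (s i)]
  rw [resM_self]

theorem exists_trans {s : ∀ i, Γ(L, f ⁻¹ᵁ W i)} (hs : ∀ i, IsGen L _ (s i)) :
    ∃ c : ∀ i j, (PU f).obj.obj (op (W i ⊓ W j)), ∀ i j, resM L (f.preimage_mono inf_le_left) (s i) =
      (ofU f (c i j) : Γ(Z, f ⁻¹ᵁ (W i ⊓ W j))) • resM L (f.preimage_mono inf_le_right) (s j) := by
  have h : ∀ i j, IsUnit (((hs j).restrict (f.preimage_mono (inf_le_right : W i ⊓ W j ≤ W j))).coef le_rfl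
      (resM L (f.preimage_mono inf_le_left) (s i))) := fun i j =>
    IsGen.isUnit_coef _ ((hs i).restrict _)
  refine ⟨fun i j => toU f (h i j).unit, fun i j => ?_⟩
  rw [ofU_toU, IsUnit.unit_spec]
  have := ((hs j).restrict (f.preimage_mono (inf_le_right : W i ⊓ W j ≤ W j))).coef_spec le_rfl
    (resM L (f.preimage_mono inf_le_left) (s i))
  rw [resM_self] at this
  exact this.symm

theorem rel_res {s : ∀ i, Γ(L, f ⁻¹ᵁ W i)} {c : ∀ i j, (PU f).obj.obj (op (W i ⊓ W j))}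
    (hc : ∀ i j, resM L (f.preimage_mono inf_le_left) (s i) =
      (ofU f (c i j) : Γ(Z, f ⁻¹ᵁ (W i ⊓ W j))) • resM L (f.preimage_mono inf_le_right) (s j))
    (i j : ι) (V : X.Opens) (hi : V ≤ W i) (hj : V ≤ W j) :
    resM L (f.preimage_mono hi) (s i) =
      (ofU f (resA (PU f) (le_inf hi hj) (c i j)) : Γ(Z, f ⁻¹ᵁ V)) • resM L (f.preimage_mono hj) (s j) := by
  have h := congrArg (resM L (f.preimage_mono (le_inf hi hj))) (hc i j)
  rw [resM_resM, resM_smul, resM_resM] at h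
  rw [ofU_res]
  exact h

theorem isCocycle_trans {s : ∀ i, Γ(L, f ⁻¹ᵁ W i)} (hs : ∀ i, IsGen L _ (s i))
    {c : ∀ i j, (PU f).obj.obj (op (W i ⊓ W j))}
    (hc : ∀ i j, resM L (f.preimage_mono inf_le_left) (s i) =
      (ofU f (c i j) : Γ(Z, f ⁻¹ᵁ (W i ⊓ W j))) • resM L (f.preimage_mono inf_le_right) (s j)) :
    IsCocycle W c := fun i j k V hi hj hk => by
  refine ofU_injective f V (Units.ext ((hs k _ (f.preimage_mono hk)).1 ?_))
  show _ • _ = _ • _
  rw [ofU_add, Units.val_mul, mul_smul, ← rel_res hc j k V hj hk, ← rel_res hc i j V hi hj,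
    ← rel_res hc i k V hi hk]

theorem class_unique_same {s t : ∀ i, Γ(L, f ⁻¹ᵁ W i)} (hs : ∀ i, IsGen L _ (s i)) (ht : ∀ i, IsGen L _ (t i))
    {c d : ∀ i j, (PU f).obj.obj (op (W i ⊓ W j))}
    (hc : ∀ i j, resM L (f.preimage_mono inf_le_left) (s i) =
      (ofU f (c i j) : Γ(Z, f ⁻¹ᵁ (W i ⊓ W j))) • resM L (f.preimage_mono inf_le_right) (s j))
    (hd : ∀ i j, resM L (f.preimage_mono inf_le_left) (t i) =
      (ofU f (d i j) : Γ(Z, f ⁻¹ᵁ (W i ⊓ W j))) • resM L (f.preimage_mono inf_le_right) (t j))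
    {ξ η : Sheaf.H (PU f) 1} (hξ : IsClass W c ξ) (hη : IsClass W d η) : ξ = η := by
  obtain ⟨e, he⟩ := exists_units hs ht
  have hcd : c = fun i j => d i j + (resA (PU f) inf_le_left (e i) - resA (PU f) inf_le_right (e j)) := by
    funext i j
    rw [← add_sub_assoc, eq_sub_iff_add_eq]
    refine ofU_injective f _ (Units.ext ((ht j _ (f.preimage_mono (inf_le_right : W i ⊓ W j ≤ W j))).1 ?_))
    show _ • _ = _ • _
    rw [ofU_add, ofU_add, Units.val_mul, Units.val_mul, mul_smul, mul_comm (ofU f (d i j)).val, mul_smul,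
      ofU_res, ofU_res, ← resM_smul, ← he, ← hd, ← resM_smul, ← he, hc]
  rw [hcd] at hξ
  exact (hξ.unique (hη.add (isClass_coboundary hη.1 e))).trans (add_zero η)

end SameCover

theorem Rel.refine {L : Z.Modules} {ξ} (h : Rel f L ξ) {κ : Type u} (W' : κ → X.Opens) (hcov : iSup W' = ⊤) :
    ∃ (μ : Type u) (V : μ → X.Opens) (s : ∀ m, Γ(L, f ⁻¹ᵁ V m)) (c : ∀ m n, (PU f).obj.obj (op (V m ⊓ V n)))
      (ρ : μ → κ), (∀ m, V m ≤ W' (ρ m)) ∧ (∀ m, IsGen L (f ⁻¹ᵁ V m) (s m)) ∧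
      (∀ m n, resM L (f.preimage_mono inf_le_left) (s m) =
        (ofU f (c m n) : Γ(Z, f ⁻¹ᵁ (V m ⊓ V n))) • resM L (f.preimage_mono inf_le_right) (s n)) ∧
      IsClass V c ξ := by
  obtain ⟨ι, W, s, c, hs, hc, hξ⟩ := h
  let V : ι × κ → X.Opens := fun m => W m.1 ⊓ W' m.2
  have hV : iSup V = ⊤ := by
    rw [iSup_prod]
    simp only [V, ← inf_iSup_eq, hcov, inf_top_eq]
    exact hξ.1
  refine ⟨ι × κ, V, fun m => resM L (f.preimage_mono inf_le_left) (s m.1), _, Prod.snd, fun m => inf_le_right,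
    fun m => (hs m.1).restrict _, fun m n => ?_, hξ.refine hV Prod.fst fun m => inf_le_left⟩
  rw [resM_resM, resM_resM]
  exact rel_res hc m.1 n.1 _ (inf_le_left.trans inf_le_left) (inf_le_right.trans inf_le_left)

theorem exists_rel (hf : HasTriv f) {L : Z.Modules} (hL : PicF.IsInvertible L) : ∃ ξ, Rel f L ξ := by
  obtain ⟨ι, W, hcov, s, hs⟩ := hf L hL
  obtain ⟨c, hc⟩ := exists_trans hs
  obtain ⟨ξ, hξ⟩ := exists_class hcov (isCocycle_trans hs hc)
  exact ⟨ξ, ι, W, s, c, hs, hc, hξ⟩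

theorem Rel.unique {L : Z.Modules} {ξ η} (h : Rel f L ξ) (h' : Rel f L η) : ξ = η := by
  obtain ⟨ι, W, t, d, ht, hd, hη⟩ := h'
  obtain ⟨μ, V, s, c, ρ, hρ, hs, hc, hξ⟩ := h.refine W hη.1
  refine class_unique_same hs (fun m => (ht (ρ m)).restrict (f.preimage_mono (hρ m))) hc (fun m n => ?_) hξ
    (hη.refine hξ.1 ρ hρ)
  rw [resM_resM, resM_resM]
  exact rel_res hd (ρ m) (ρ n) _ (inf_le_left.trans (hρ m)) (inf_le_right.trans (hρ n))

theorem Rel.congr {L M : Z.Modules} {ξ} (h : Rel f L ξ) (e : L ≅ M) : Rel f M ξ := by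
  obtain ⟨ι, W, s, c, hs, hc, hξ⟩ := h
  refine ⟨ι, W, fun i => e.hom.app _ (s i), c, fun i => isGen_of_iso' e (hs i), fun i j => ?_, hξ⟩
  rw [← app_resM, hc, Scheme.Modules.Hom.app_smul, app_resM]

theorem Rel.tensor {L M : Z.Modules} {ξ η} (h : Rel f L ξ) (h' : Rel f M η) :
    Rel f (CohB1.tensorMod L M) (ξ + η) := by
  obtain ⟨ι, W, t, d, ht, hd, hη⟩ := h'
  obtain ⟨μ, V, s, c, ρ, hρ, hs, hc, hξ⟩ := h.refine W hη.1
  refine ⟨μ, V, fun m => tmul (s m) (resM M (f.preimage_mono (hρ m)) (t (ρ m))), _,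
    fun m => isGen_tmul (hs m) ((ht (ρ m)).restrict _), fun m n => ?_, hξ.add (hη.refine hξ.1 ρ hρ)⟩
  rw [resM_tmul, resM_tmul, resM_resM, resM_resM, hc,
    rel_res hd (ρ m) (ρ n) _ (inf_le_left.trans (hρ m)) (inf_le_right.trans (hρ n)), tmul_smul_smul,
    ofU_add, Units.val_mul]

theorem rel_structure : Rel f (Coh.structureModule Z) 0 := by
  have hcov : iSup (fun _ : PUnit.{u+1} => (⊤ : X.Opens)) = ⊤ := iSup_const
  refine ⟨PUnit, fun _ => ⊤, fun _ => oneSec _, fun i j => 0, fun i => isGen_oneSec _, fun i j => ?_, ?_⟩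
  · rw [ofU_zero, Units.val_one, one_smul]
  · have h := isClass_coboundary (F := PU f) hcov fun _ => 0
    simp only [map_zero, sub_zero] at h
    exact h

theorem Rel.trivial_iff {L : Z.Modules} {ξ} (h : Rel f L ξ) :
    Nonempty (L ≅ Coh.structureModule Z) ↔ ξ = 0 := by
  refine ⟨fun ⟨e⟩ => h.unique (rel_structure.congr e.symm), fun h0 => ?_⟩
  obtain ⟨ι, W, s, c, hs, hc, hξ⟩ := h
  obtain ⟨e, he⟩ := hξ.eq_zero_iff.1 h0
  let t : ∀ i, Γ(L, f ⁻¹ᵁ W i) := fun i => (ofU f (-e i) : Γ(Z, f ⁻¹ᵁ W i)) • s i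
  have ht : ∀ i, IsGen L _ (t i) := fun i => (hs i).smul_unit _
  have hcov : iSup (fun i => f ⁻¹ᵁ W i) = ⊤ := top_le_iff.1 fun z _ => by
    obtain ⟨i, hi⟩ := Opens.mem_iSup.1 (show f z ∈ iSup W from hξ.1.ge trivial)
    exact Opens.mem_iSup.2 ⟨i, hi⟩
  obtain ⟨σ, hσ, -⟩ := TopCat.Sheaf.existsUnique_gluing' (⟨L.presheaf, L.isSheaf⟩ : TopCat.Sheaf Ab Z)
    (fun i => f ⁻¹ᵁ W i) ⊤ (fun i => homOfLE le_top) hcov.ge t fun i j => by
      show resM L (f.preimage_mono inf_le_left) (t i) = resM L (f.preimage_mono (inf_le_right : W i ⊓ W j ≤ W j)) (t j)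
      simp only [t, resM_smul]
      rw [← ofU_res f (inf_le_left : W i ⊓ W j ≤ W i), ← ofU_res f (inf_le_right : W i ⊓ W j ≤ W j), hc, ← mul_smul, ← Units.val_mul, ← ofU_add, he, map_neg, map_neg]
      congr 3
      abel
  exact PnEmb.nonempty_iso_of_isGen_top (s := σ)
    (isGen_of_cover (fun i => f ⁻¹ᵁ W i) (fun i => le_top) hcov.ge fun i => by
      rw [show resM L le_top σ = t i from hσ i]; exact ht i)

/-- Modules with the same class are isomorphic. -/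
theorem Rel.nonempty_iso {L M : Z.Modules} {ξ} (h : Rel f L ξ) (h' : Rel f M ξ) : Nonempty (L ≅ M) := by
  obtain ⟨ι, W, t, d, ht, hd, hη⟩ := h'
  obtain ⟨μ, V, s, c, ρ, hρ, hs, hc, hξ⟩ := h.refine W hη.1
  have hη' := hη.refine hξ.1 ρ hρ
  obtain ⟨e, he⟩ := (hξ.sub hη').eq_zero_iff.1 (sub_self ξ)
  let t' : ∀ m, Γ(M, f ⁻¹ᵁ V m) := fun m =>
    (ofU f (e m) : Γ(Z, f ⁻¹ᵁ V m)) • resM M (f.preimage_mono (hρ m)) (t (ρ m))
  have ht' : ∀ m, IsGen M _ (t' m) := fun m => ((ht (ρ m)).restrict _).smul_unit _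
  have key : ∀ m n, resM M (f.preimage_mono inf_le_left) (t' m) =
      (ofU f (c m n) : Γ(Z, f ⁻¹ᵁ (V m ⊓ V n))) • resM M (f.preimage_mono inf_le_right) (t' n) := fun m n => by
    simp only [t', resM_smul, resM_resM]
    rw [← ofU_res f (inf_le_left : V m ⊓ V n ≤ V m), ← ofU_res f (inf_le_right : V m ⊓ V n ≤ V n),
      rel_res hd (ρ m) (ρ n) _ (inf_le_left.trans (hρ m)) (inf_le_right.trans (hρ n)), ← mul_smul, ← mul_smul,
      ← Units.val_mul, ← Units.val_mul, ← ofU_add, ← ofU_add]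
    congr 3
    rw [← sub_eq_iff_eq_add, add_comm, add_sub_assoc, eq_comm, ← sub_eq_iff_eq_add']
    exact he m n
  clear_value t'
  have hcov : iSup (fun m => f ⁻¹ᵁ V m) = ⊤ := top_le_iff.1 fun z _ => by
    obtain ⟨i, hi⟩ := Opens.mem_iSup.1 (show f z ∈ iSup V from hξ.1.ge trivial)
    exact Opens.mem_iSup.2 ⟨i, hi⟩
  obtain ⟨φ, hφ⟩ := exists_hom_of_gen (fun m => f ⁻¹ᵁ V m) hcov s hs t' fun m n U hm hn b hb => by
    have hU : U ≤ f ⁻¹ᵁ (V m ⊓ V n) := fun z hz => ⟨hm hz, hn hz⟩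
    have hb' : PicLib.res hU (ofU f (c m n)).val = b := (hs n U hn).1 (by
      have h := congrArg (resM L hU) (hc m n)
      rw [resM_resM, resM_smul, resM_resM] at h
      exact h.symm.trans hb)
    have h := congrArg (resM M hU) (key m n)
    rw [resM_resM, resM_smul, resM_resM] at h
    exact h.trans (congrArg (· • resM M hn (t' n)) hb')
  haveI : IsIso φ := isIso_of_gens φ _ hcov s hs fun m => by rw [hφ m]; exact ht' m
  exact ⟨asIso φ⟩

variable (f) in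
theorem exists_of_class (ξ : Sheaf.H (PU f) 1) : ∃ L : Z.Modules, PicF.IsInvertible L ∧ Rel f L ξ := by
  obtain ⟨W, -, c, hξ⟩ := exists_cocycle ξ
  have hcov : iSup (fun i => f ⁻¹ᵁ W i) = ⊤ := top_le_iff.1 fun z _ => by
    obtain ⟨i, hi⟩ := Opens.mem_iSup.1 (show f z ∈ iSup W from hξ.1.ge trivial)
    exact Opens.mem_iSup.2 ⟨i, hi⟩
  obtain ⟨L, s, hL, hs, hsη⟩ := CocycleGlue.exists_invertible (fun i => f ⁻¹ᵁ W i) (fun i j => ofU f (c i j))
    (fun x i j k => by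
      have hx : x ∈ f ⁻¹ᵁ (W i.1 ⊓ W j.1 ⊓ W k.1) := ⟨⟨i.2, j.2⟩, k.2⟩
      have h := congrArg (fun u => (ofU f u).val)
        (hξ.isCocycle i.1 j.1 k.1 (W i.1 ⊓ W j.1 ⊓ W k.1) (inf_le_left.trans inf_le_left)
          (inf_le_left.trans inf_le_right) inf_le_right)
      simp only [ofU_add, Units.val_mul, ofU_res] at h
      have h' := congrArg (Z.presheaf.germ _ x hx) h
      simp only [map_mul, VarietyLib.StarGlue.germ_resO] at h'
      exact h'.symm) hcov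
  exact ⟨L, hL, X, W, s, c, hs, hsη, hξ⟩

theorem Rel.pull {L : X.Modules} {ξ} (hL : PicF.IsInvertible L) (h : Rel (𝟙 X) L ξ) :
    Rel f ((Scheme.Modules.pullback f).obj L) (Sheaf.H.map (comap' f) 1 ξ) := by
  obtain ⟨ι, W, s, c, hs, hc, hξ⟩ := h
  refine ⟨ι, W, fun i => pullSec f (U := W i) (s i), _, fun i => isGen_pullSec f (hs i) hL, fun i j => ?_,
    hξ.map (comap' f)⟩
  refine (resM_pullSec f (inf_le_left : W i ⊓ W j ≤ W i) (s i)).trans ?_
  rw [ofU_comap, show resM L (inf_le_left : W i ⊓ W j ≤ W i) (s i) = _ from hc i j, pullSec_smul]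
  exact congrArg _ (resM_pullSec f (inf_le_right : W i ⊓ W j ≤ W j) (s j)).symm

/-- The class of an element of `Pic`. -/
noncomputable def cls1 (hf : HasTriv f) (a : PicLoc.PicSet Z) : Sheaf.H (PU f) 1 :=
  (exists_rel hf (PicGrp.exists_eq_cls a).choose_spec.choose).choose

theorem cls1_spec (hf : HasTriv f) {L : Z.Modules} (hL : PicF.IsInvertible L) :
    Rel f L (cls1 hf (PicGrp.cls L hL)) := by
  have h := (PicGrp.exists_eq_cls (PicGrp.cls L hL)).choose_spec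
  exact (exists_rel hf h.choose).choose_spec.congr ((PicGrp.cls_eq_cls_iff hL h.choose).1 h.choose_spec).some.symm

theorem cls1_eq_iff (hf : HasTriv f) {L : Z.Modules} (hL : PicF.IsInvertible L) (ξ) :
    cls1 hf (PicGrp.cls L hL) = ξ ↔ Rel f L ξ :=
  ⟨fun h => h ▸ cls1_spec hf hL, fun h => (cls1_spec hf hL).unique h⟩

/-- `Pic Z → H¹(X, f_* O_Z^×)`. -/
noncomputable def picToH1 [PicGrp.Law Z] (hf : HasTriv f) : Additive (PicLoc.PicSet Z) →+ Sheaf.H (PU f) 1 :=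
  AddMonoidHom.mk' (fun a => cls1 hf a.toMul) fun a b => by
    obtain ⟨L, hL, hLa⟩ := PicGrp.exists_eq_cls a.toMul
    obtain ⟨M, hM, hMb⟩ := PicGrp.exists_eq_cls b.toMul
    have h : PicGrp.cls L hL * PicGrp.cls M hM = PicGrp.cls _ (isInvertible_tensorMod hL hM) :=
      Subtype.ext (PicGrp.cls_mul_cls_val hL hM)
    rw [show (a + b).toMul = a.toMul * b.toMul from rfl, hLa, hMb, h]
    exact (cls1_eq_iff hf _ _).2 ((cls1_spec hf hL).tensor (cls1_spec hf hM))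

theorem picToH1_bijective [PicGrp.Law Z] (hf : HasTriv f) : Function.Bijective (picToH1 hf) := by
  constructor
  · refine (injective_iff_map_eq_zero _).2 fun a ha => ?_
    obtain ⟨L, hL, hLa⟩ := PicGrp.exists_eq_cls a.toMul
    change cls1 hf a.toMul = 0 at ha
    rw [hLa] at ha
    refine Additive.toMul.injective ?_
    rw [hLa]
    exact (PicGrp.cls_eq_one_iff hL).2 ((cls1_spec hf hL).trivial_iff.2 ha)
  · intro ξ
    obtain ⟨L, hL, h⟩ := exists_of_class f ξ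
    exact ⟨Additive.ofMul (PicGrp.cls L hL), (cls1_eq_iff hf hL ξ).2 h⟩

/-- Pullback of classes is `H¹` of the units map. -/
theorem picToH1_pullHom [PicGrp.Law Z] [PicGrp.Law X] (hf : HasTriv f) (hi : PicGrp.PullMul f)
    (a : PicLoc.PicSet X) :
    picToH1 hf (Additive.ofMul (PicGrp.pullHom f hi a)) =
      Sheaf.H.map (comap' f) 1 (picToH1 hasTriv_id (Additive.ofMul a)) := by
  obtain ⟨L, hL, rfl⟩ := PicGrp.exists_eq_cls a
  rw [PicGrp.pullHom_cls]
  exact (cls1_eq_iff hf (PicLoc.isInvertible_pullback f hL) _).2 ((cls1_spec hasTriv_id hL).pull hL)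

/-- The Picard group has its group law. -/
theorem nonempty_law (Y : Scheme.{u}) : Nonempty (PicGrp.Law Y) := by
  let hf : HasTriv (𝟙 Y) := hasTriv_id
  have hinj : Function.Injective (cls1 hf) := fun a b h => by
    obtain ⟨L, hL, rfl⟩ := PicGrp.exists_eq_cls a
    obtain ⟨M, hM, rfl⟩ := PicGrp.exists_eq_cls b
    exact (PicGrp.cls_eq_cls_iff hL hM).2 ((cls1_spec hf hL).nonempty_iso (h ▸ cls1_spec hf hM))
  have hsurj : Function.Surjective (cls1 hf) := fun ξ => by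
    obtain ⟨L, hL, h⟩ := exists_of_class (𝟙 Y) ξ
    exact ⟨PicGrp.cls L hL, (cls1_eq_iff hf hL ξ).2 h⟩
  let e : PicLoc.PicSet Y ≃ Multiplicative (Sheaf.H (PU (𝟙 Y)) 1) :=
    (Equiv.ofBijective (cls1 hf) ⟨hinj, hsurj⟩).trans Multiplicative.ofAdd
  refine ⟨{ e.commGroup with mul_val := fun a b => ?_, one_eq := ?_ }⟩
  · obtain ⟨L, hL, rfl⟩ := PicGrp.exists_eq_cls a
    obtain ⟨M, hM, rfl⟩ := PicGrp.exists_eq_cls b
    show (e.symm (e _ * e _)).1 = PicF.cl (CohB1.tensorMod L M)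
    rw [show e (PicGrp.cls L hL) * e (PicGrp.cls M hM) = e (PicGrp.cls _ (isInvertible_tensorMod hL hM)) from
      congrArg Multiplicative.ofAdd ((cls1_eq_iff hf _ _).2 ((cls1_spec hf hL).tensor (cls1_spec hf hM))).symm,
      Equiv.symm_apply_apply]
    rfl
  · show e.symm 1 = PicLoc.unitPicSet Y
    rw [Equiv.symm_apply_eq, PicGrp.unitPicSet_eq_cls]
    exact congrArg Multiplicative.ofAdd ((cls1_eq_iff hf _ _).2 rel_structure).symm

theorem pullMul {W Y : Scheme.{u}} (g : W ⟶ Y) : PicGrp.PullMul g := by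
  rintro _ _ ⟨L, rfl, hL⟩ ⟨M, rfl, hM⟩
  exact (PicGrp.cl_eq_cl_iff _ _).2 (exists_pullTensorIso g hL hM)

end Groth.Agent.PicH127
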