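import Groth.Agent.PicH127.Units
import Groth.Agent.PicDef15.SqZero
import Groth.Agent.S15747
import Groth.Prelude.Def_Coh

/-!
# The units sequence of a square-zero thickening and the Picard groups
-/

set_option autoImplicit false
set_option linter.style.haveILetI false
set_option backward.isDefEq.respectTransparency.types false
set_option backward.isDefEq.respectTransparency false

universe u

open CategoryTheory CategoryTheory.Limits CategoryTheory.Abelian AlgebraicGeometry Opposite TopologicalSpace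
open Groth.Agent.Coherent Groth.Agent.PicLib Groth.Agent.PicDef15

namespace Groth.Agent.PicH127

variable {X : Scheme.{u}} (I : X.IdealSheafData) (hI : I * I = ⊥)

include hI in
theorem hasTriv_subschemeι : HasTriv I.subschemeι := fun L hL => by
  have h2 : I ^ 2 = ⊥ := by rw [pow_two]; exact hI
  obtain ⟨U, s, hm, hs⟩ := exists_cover hL
  choose V hV using fun z => exists_preimage_eq I h2 (U z)
  refine ⟨I.subscheme, V, top_le_iff.1 fun x _ => ?_, fun z => resM L (hV z).le (s z), fun z => (hs z).restrict _⟩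
  obtain ⟨z, rfl⟩ := surjective_subschemeι I h2 x
  exact Opens.mem_iSup.2 ⟨z, (hV z).ge (hm z)⟩

/-- Degree zero cohomology and global sections. -/
noncomputable def e0 {T : TopCat.{u}} (F : CohTop.Ab T) : Sheaf.H F 0 ≃+ F.obj.obj (op ⊤) :=
  Sheaf.H.equiv₀ F (topIsTerminal T)

theorem e0_map {T : TopCat.{u}} {F G : CohTop.Ab T} (φ : F ⟶ G) (x : Sheaf.H F 0) :
    e0 G (Sheaf.H.map φ 0 x) = φ.hom.app (op ⊤) (e0 F x) :=
  (Sheaf.H.equiv₀_naturality (topIsTerminal T) φ x).symm

variable {I}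

/-- The four maps of the sequence. -/
theorem exists_maps [PicGrp.Law X] [PicGrp.Law I.subscheme] (hI : I * I = ⊥) (hi : PicGrp.PullMul I.subschemeι) :
    ∃ (ε : Multiplicative (Coh.HH X (ClSub.idealMod I) 0) →* (Γ(X, ⊤))ˣ)
      (δ₀ : (Γ(I.subscheme, ⊤))ˣ →* Multiplicative (Coh.HH X (ClSub.idealMod I) 1))
      (α : Multiplicative (Coh.HH X (ClSub.idealMod I) 1) →* PicLoc.PicSet X)
      (δ₁ : PicLoc.PicSet I.subscheme →* Multiplicative (Coh.HH X (ClSub.idealMod I) 2)),
      Function.Injective ε ∧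
      (Units.map I.subschemeι.appTop.hom.toMonoidHom).ker = ε.range ∧
      δ₀.ker = (Units.map I.subschemeι.appTop.hom.toMonoidHom).range ∧
      α.ker = δ₀.range ∧
      (PicGrp.pullHom I.subschemeι hi).ker = α.range ∧
      δ₁.ker = (PicGrp.pullHom I.subschemeι hi).range := by
  obtain ⟨φ, -, w, hS⟩ := S15747.result X I hI
  let i := I.subschemeι
  haveI : Mono φ := hS.mono_f
  let EX := AddEquiv.ofBijective _ (picToH1_bijective (hasTriv_id (X := X)))
  let EZ := AddEquiv.ofBijective _ (picToH1_bijective (hasTriv_subschemeι I hI))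
  have hcom : ∀ a, EZ (Additive.ofMul (PicGrp.pullHom i hi a)) =
      Sheaf.H.map (comap' i) 1 (EX (Additive.ofMul a)) := fun a => picToH1_pullHom (hasTriv_subschemeι I hI) hi a
  let ι0 : (Γ(I.subscheme, ⊤))ˣ → Sheaf.H (PU i) 0 := fun v => (e0 (PU i)).symm (toU i (U := ⊤) v)
  have hι0 : ∀ v : (Γ(X, ⊤))ˣ, ι0 (Units.map i.appTop.hom.toMonoidHom v) =
      Sheaf.H.map (comap' i) 0 ((e0 (PU (𝟙 X))).symm (toU (𝟙 X) (U := ⊤) v)) := fun v => by
    refine (e0 (PU i)).injective ?_
    rw [e0_map]; simp only [ι0, AddEquiv.apply_symm_apply]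
    rfl
  let ε : Multiplicative (Coh.HH X (ClSub.idealMod I) 0) →* (Γ(X, ⊤))ˣ :=
    MonoidHom.mk' (fun x => ofU (𝟙 X) (φ.hom.app (op ⊤) (e0 _ x.toAdd))) fun x y => by
      rw [toAdd_mul, map_add, map_add]
      exact ofU_add (𝟙 X) _ _
  let δ₀ : (Γ(I.subscheme, ⊤))ˣ →* Multiplicative (Coh.HH X (ClSub.idealMod I) 1) :=
    MonoidHom.mk' (fun v => Multiplicative.ofAdd ((ι0 v).comp hS.extClass (zero_add 1))) fun a b => by
      rw [← ofAdd_add, ← Ext.add_comp]
      refine congrArg Multiplicative.ofAdd (congrArg (fun z => Ext.comp z hS.extClass (zero_add 1)) ?_)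
      show (e0 (PU i)).symm (toU i (U := ⊤) a + toU i (U := ⊤) b) = _
      exact map_add _ _ _
  let α : Multiplicative (Coh.HH X (ClSub.idealMod I) 1) →* PicLoc.PicSet X :=
    MonoidHom.mk' (fun x => (EX.symm (Sheaf.H.map φ 1 x.toAdd)).toMul) fun x y => by
      rw [toAdd_mul, map_add, map_add]
      rfl
  let δ₁ : PicLoc.PicSet I.subscheme →* Multiplicative (Coh.HH X (ClSub.idealMod I) 2) :=
    MonoidHom.mk' (fun a => Multiplicative.ofAdd ((EZ (Additive.ofMul a)).comp hS.extClass (rfl : 1 + 1 = 2)))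
      fun a b => by
        rw [ofMul_mul, map_add, ← ofAdd_add, ← Ext.add_comp]
  refine ⟨ε, δ₀, α, δ₁, ?_, ?_, ?_, ?_, ?_, ?_⟩
  · exact (ofU_injective (𝟙 X) ⊤).comp ((SiteCoh.sections_injective φ ⊤).comp
      ((e0 _).injective.comp Multiplicative.toAdd.injective))
  · ext v
    rw [MonoidHom.mem_ker, MonoidHom.mem_range]
    constructor
    · intro hv
      obtain ⟨m, hm⟩ := SiteCoh.sections_exact hS ⊤ (toU (𝟙 X) (U := ⊤) v) (congrArg (toU i (U := ⊤)) hv)
      refine ⟨Multiplicative.ofAdd ((e0 _).symm m), ?_⟩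
      show ofU (𝟙 X) (φ.hom.app (op ⊤) (e0 _ ((e0 _).symm m))) = v
      rw [AddEquiv.apply_symm_apply]
      exact congrArg (ofU (𝟙 X)) hm
    · rintro ⟨x, rfl⟩
      exact congrArg (ofU i (U := ⊤))
        (SiteCoh.sections_comp_eq_zero (S := ShortComplex.mk φ (UnitsSh.comap i) w) ⊤ (e0 _ x.toAdd))
  · ext v
    rw [MonoidHom.mem_ker, MonoidHom.mem_range]
    constructor
    · intro hv
      obtain ⟨y, hy⟩ := Ext.covariant_sequence_exact₃ _ hS (ι0 v) (zero_add 1) (Multiplicative.ofAdd.injective hv)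
      refine ⟨ofU (𝟙 X) (e0 (PU (𝟙 X)) y), ?_⟩
      have h2 := congrArg (e0 (PU i)) hy
      erw [e0_map] at h2
      rw [AddEquiv.apply_symm_apply] at h2
      exact congrArg (ofU i (U := ⊤)) h2
    · rintro ⟨u, rfl⟩
      show Multiplicative.ofAdd ((ι0 _).comp hS.extClass (zero_add 1)) = 1
      rw [hι0, Sheaf.H.map_apply, Ext.comp_assoc (a₂₃ := 1) _ _ _ (add_zero 0) (zero_add 1) (by omega)]
      rw [show (Ext.mk₀ (comap' i)).comp hS.extClass (zero_add 1) = 0 from hS.comp_extClass, Ext.comp_zero]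
      rfl
  · ext x
    rw [MonoidHom.mem_ker, MonoidHom.mem_range]
    constructor
    · intro hx
      have h0 : Sheaf.H.map φ 1 x.toAdd = 0 := by
        have := congrArg Additive.ofMul hx
        refine EX.symm.injective ?_
        rw [map_zero]
        exact this
      obtain ⟨y, hy⟩ := Ext.covariant_sequence_exact₁ _ hS x.toAdd h0 (zero_add 1)
      refine ⟨ofU i (U := ⊤) (e0 (PU i) y), ?_⟩
      show Multiplicative.ofAdd (Ext.comp ((e0 (PU i)).symm (e0 (PU i) y)) hS.extClass (zero_add 1)) = x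
      rw [AddEquiv.symm_apply_apply]
      exact congrArg Multiplicative.ofAdd hy
    · rintro ⟨v, rfl⟩
      show (EX.symm (Sheaf.H.map φ 1 ((ι0 v).comp hS.extClass (zero_add 1)))).toMul = 1
      rw [Sheaf.H.map_apply, Ext.comp_assoc (a₂₃ := 1) _ _ _ (zero_add 1) (add_zero 1) (by omega),
        hS.extClass_comp, Ext.comp_zero, map_zero]
      rfl
  · ext a
    rw [MonoidHom.mem_ker, MonoidHom.mem_range]
    constructor
    · intro ha
      have h0 : Sheaf.H.map (comap' i) 1 (EX (Additive.ofMul a)) = 0 := by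
        rw [← hcom, ha, ofMul_one, map_zero]
      obtain ⟨x, hx⟩ := Ext.covariant_sequence_exact₂ _ hS (EX (Additive.ofMul a)) h0
      refine ⟨Multiplicative.ofAdd x, ?_⟩
      show (EX.symm (Sheaf.H.map φ 1 x)).toMul = a
      rw [show Sheaf.H.map φ 1 x = EX (Additive.ofMul a) from hx, AddEquiv.symm_apply_apply]
      rfl
    · rintro ⟨x, rfl⟩
      refine Additive.ofMul.injective (EZ.injective ?_)
      rw [hcom, ofMul_one, map_zero]
      show Sheaf.H.map (comap' i) 1 (EX (EX.symm (Sheaf.H.map φ 1 x.toAdd))) = 0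
      rw [AddEquiv.apply_symm_apply, Sheaf.H.map_apply, Sheaf.H.map_apply,
        Ext.comp_assoc (a₂₃ := 0) _ _ _ (add_zero 1) (add_zero 0) (by omega), Ext.mk₀_comp_mk₀,
        show φ ≫ comap' i = 0 from w, Ext.mk₀_zero, Ext.comp_zero]
  · ext b
    rw [MonoidHom.mem_ker, MonoidHom.mem_range]
    constructor
    · intro hb
      obtain ⟨y, hy⟩ := Ext.covariant_sequence_exact₃ _ hS (EZ (Additive.ofMul b)) (rfl : 1 + 1 = 2)
        (Multiplicative.ofAdd.injective hb)
      refine ⟨(EX.symm y).toMul, Additive.ofMul.injective (EZ.injective ?_)⟩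
      rw [hcom, ofMul_toMul, AddEquiv.apply_symm_apply]
      exact hy
    · rintro ⟨a, rfl⟩
      show Multiplicative.ofAdd ((EZ (Additive.ofMul (PicGrp.pullHom i hi a))).comp hS.extClass rfl) = 1
      rw [hcom, Sheaf.H.map_apply, Ext.comp_assoc (a₂₃ := 1) _ _ _ (add_zero 1) (zero_add 1) (by omega)]
      rw [show (Ext.mk₀ (comap' i)).comp hS.extClass (zero_add 1) = 0 from hS.comp_extClass, Ext.comp_zero]
      rfl

end Groth.Agent.PicH127
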