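import Groth.Agent.PicDef15.CoboundaryOne

/-!
# The class in `H¹` of a Čech 1-cocycle

`IsClass F W c ξ`: with `0 → F → I → Q → 0` the standard injective embedding, `c i j = y i - y j` in `I`
for local sections `y` lifting a section `q` of `Q` whose coboundary is `ξ`.
-/

set_option autoImplicit false
set_option linter.style.haveILetI false
set_option backward.isDefEq.respectTransparency false

universe u

open CategoryTheory CategoryTheory.Limits CategoryTheory.Abelian Opposite TopologicalSpace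
open Groth.Agent.SiteCoh Groth.Agent.Coherent Groth.Agent.PicDef15

namespace Groth.Agent.PicH127

variable {X : TopCat.{u}} {F G : CohTop.Ab X}

/-- The connecting map of the standard injective embedding. -/
noncomputable def delta (F : CohTop.Ab X) : (injEmbed F).X₃.obj.obj (op ⊤) →+ Sheaf.H F 1 :=
  AddMonoidHom.mk' (fun q =>
      (Ext.mk₀ ((constZEquiv (injEmbed F).X₃).symm q)).comp (injEmbed_shortExact F).extClass (zero_add 1))
    fun a b => by rw [map_add, Ext.mk₀_add, Ext.add_comp]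

theorem delta_surjective (F : CohTop.Ab X) : Function.Surjective (delta F) := fun ξ => by
  haveI : Injective (injEmbed F).X₂ := inferInstanceAs (Injective (Injective.under F))
  obtain ⟨x, hx⟩ := Ext.covariant_sequence_exact₁ _ (injEmbed_shortExact F) ξ
    (Ext.eq_zero_of_injective _) (zero_add 1)
  obtain ⟨f, rfl⟩ := (Ext.mk₀_bijective _ _).2 x
  refine ⟨constZEquiv _ f, ?_⟩
  show (Ext.mk₀ ((constZEquiv (injEmbed F).X₃).symm (constZEquiv _ f))).comp _ (zero_add 1) = ξ
  rw [AddEquiv.symm_apply_apply]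
  exact hx

theorem delta_eq_zero_iff (q : (injEmbed F).X₃.obj.obj (op ⊤)) :
    delta F q = 0 ↔ ∃ s, (injEmbed F).g.hom.app (op ⊤) s = q := by
  constructor
  · intro h
    obtain ⟨x, hx⟩ := Ext.covariant_sequence_exact₃ _ (injEmbed_shortExact F)
      (Ext.mk₀ ((constZEquiv (injEmbed F).X₃).symm q)) (zero_add 1) h
    obtain ⟨f, rfl⟩ := (Ext.mk₀_bijective _ _).2 x
    rw [Ext.mk₀_comp_mk₀] at hx
    refine ⟨constZEquiv _ f, ?_⟩
    rw [← constZEquiv_comp, (Ext.mk₀_bijective _ _).1 hx, AddEquiv.apply_symm_apply]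
  · rintro ⟨s, rfl⟩
    show (Ext.mk₀ ((constZEquiv (injEmbed F).X₃).symm _)).comp _ (zero_add 1) = 0
    rw [show (constZEquiv (injEmbed F).X₃).symm ((injEmbed F).g.hom.app (op ⊤) s) =
      (constZEquiv (injEmbed F).X₂).symm s ≫ (injEmbed F).g from (constZEquiv _).injective (by
        rw [AddEquiv.apply_symm_apply, constZEquiv_comp, AddEquiv.apply_symm_apply]),
      ← Ext.mk₀_comp_mk₀, Ext.comp_assoc (a₂₃ := 1) _ _ _ (zero_add 0) (zero_add 1) (by omega),
      ShortComplex.ShortExact.comp_extClass, Ext.comp_zero]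

section

variable {ι : Type u} (W : ι → Opens X)

/-- The cocycle condition. -/
def IsCocycle (c : ∀ i j, F.obj.obj (op (W i ⊓ W j))) : Prop :=
  ∀ i j k (V : Opens X) (hi : V ≤ W i) (hj : V ≤ W j) (hk : V ≤ W k),
    resA F (le_inf hi hj) (c i j) + resA F (le_inf hj hk) (c j k) = resA F (le_inf hi hk) (c i k)

/-- `c` is a coboundary. -/
def IsCoboundary (c : ∀ i j, F.obj.obj (op (W i ⊓ W j))) : Prop :=
  ∃ e : ∀ i, F.obj.obj (op (W i)), ∀ i j, c i j = resA F inf_le_left (e i) - resA F inf_le_right (e j)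

/-- `ξ` is the class of the cocycle `c`. -/
def IsClass (c : ∀ i j, F.obj.obj (op (W i ⊓ W j))) (ξ : Sheaf.H F 1) : Prop :=
  iSup W = ⊤ ∧ ∃ (y : ∀ i, (injEmbed F).X₂.obj.obj (op (W i))) (q : (injEmbed F).X₃.obj.obj (op ⊤)),
    (∀ i j, (injEmbed F).f.hom.app _ (c i j) =
      resA (injEmbed F).X₂ inf_le_left (y i) - resA (injEmbed F).X₂ inf_le_right (y j)) ∧
    (∀ i, (injEmbed F).g.hom.app _ (y i) = resA (injEmbed F).X₃ le_top q) ∧ delta F q = ξ

variable {W}

/-- Sections of a sheaf agreeing on overlaps glue. -/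
theorem exists_glue (G : CohTop.Ab X) (hcov : iSup W = ⊤) (z : ∀ i, G.obj.obj (op (W i)))
    (hz : ∀ i j, resA G inf_le_left (z i) = resA G (inf_le_right : W i ⊓ W j ≤ W j) (z j)) :
    ∃ s : G.obj.obj (op ⊤), ∀ i, resA G le_top s = z i := by
  obtain ⟨s, hs, -⟩ := TopCat.Sheaf.existsUnique_gluing' G W ⊤ (fun i => homOfLE le_top) hcov.ge z hz
  exact ⟨s, hs⟩

theorem eq_of_locally_eq (G : CohTop.Ab X) (hcov : iSup W = ⊤) {a b : G.obj.obj (op ⊤)}
    (h : ∀ i, resA G (le_top : W i ≤ ⊤) a = resA G le_top b) : a = b :=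
  TopCat.Sheaf.eq_of_locally_eq' G W ⊤ (fun i => homOfLE le_top) hcov.ge a b h

/-- Every cocycle has a class. -/
theorem exists_class (hcov : iSup W = ⊤) {c : ∀ i j, F.obj.obj (op (W i ⊓ W j))} (hc : IsCocycle W c) :
    ∃ ξ, IsClass W c ξ := by
  haveI : Injective (injEmbed F).X₂ := inferInstanceAs (Injective (Injective.under F))
  obtain ⟨y, hy⟩ := exists_coboundary_of_injective W (injEmbed F).X₂
    (fun i j => (injEmbed F).f.hom.app _ (c i j)) fun i j k V hi hj hk => by
      rw [← resA_app, ← resA_app, ← resA_app, ← hc i j k V hi hj hk, map_add]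
      abel
  have hy' : ∀ i j, (injEmbed F).f.hom.app _ (c i j) =
      resA (injEmbed F).X₂ inf_le_left (-y i) - resA (injEmbed F).X₂ inf_le_right (-y j) := fun i j => by
    rw [map_neg, map_neg, sub_neg_eq_add, neg_add_eq_sub, ← hy i j _ inf_le_left inf_le_right]
    exact (ConcreteCategory.congr_hom ((injEmbed F).X₂.obj.map_id _) _).symm
  obtain ⟨q, hq⟩ := exists_glue (injEmbed F).X₃ hcov (fun i => (injEmbed F).g.hom.app _ (-y i)) fun i j => by
    rw [← resA_app, ← resA_app, ← sub_eq_zero, ← map_sub, ← hy']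
    exact sections_comp_eq_zero (S := injEmbed F) _ _
  exact ⟨_, hcov, fun i => -y i, q, hy', fun i => (hq i).symm, rfl⟩

theorem IsClass.isCocycle {c : ∀ i j, F.obj.obj (op (W i ⊓ W j))} {ξ} (h : IsClass W c ξ) : IsCocycle W c := by
  obtain ⟨-, y, q, hy, -, -⟩ := h
  haveI := (injEmbed_shortExact F).mono_f
  refine fun i j k V hi hj hk => sections_injective (injEmbed F).f V ?_
  rw [map_add, resA_app, resA_app, resA_app, hy, hy, hy, map_sub, map_sub, map_sub]
  simp only [resA_resA]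
  abel

theorem IsClass.unique {c : ∀ i j, F.obj.obj (op (W i ⊓ W j))} {ξ ξ'} (h : IsClass W c ξ) (h' : IsClass W c ξ') :
    ξ = ξ' := by
  obtain ⟨hcov, y, q, hy, hq, rfl⟩ := h
  obtain ⟨-, y', q', hy', hq', rfl⟩ := h'
  obtain ⟨s, hs⟩ := exists_glue (injEmbed F).X₂ hcov (fun i => y i - y' i) fun i j => by
    have e := (hy i j).symm.trans (hy' i j)
    rw [map_sub, map_sub]
    exact sub_eq_sub_iff_sub_eq_sub.1 e
  rw [← sub_eq_zero, ← map_sub, delta_eq_zero_iff]
  refine ⟨s, eq_of_locally_eq _ hcov fun i => ?_⟩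
  rw [← resA_app, hs, map_sub, map_sub, hq, hq']

theorem IsClass.refine {c : ∀ i j, F.obj.obj (op (W i ⊓ W j))} {ξ} (h : IsClass W c ξ) {κ : Type u}
    {W' : κ → Opens X} (hcov : iSup W' = ⊤) (ρ : κ → ι) (hρ : ∀ k, W' k ≤ W (ρ k)) :
    IsClass W' (fun k l => resA F (inf_le_inf (hρ k) (hρ l)) (c (ρ k) (ρ l))) ξ := by
  obtain ⟨-, y, q, hy, hq, hξ⟩ := h
  refine ⟨hcov, fun k => resA _ (hρ k) (y (ρ k)), q, fun k l => ?_, fun k => ?_, hξ⟩
  · rw [resA_app, hy, map_sub]
    simp only [resA_resA]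
  · rw [resA_app, hq, resA_resA]

theorem IsClass.add {c c' : ∀ i j, F.obj.obj (op (W i ⊓ W j))} {ξ ξ'} (h : IsClass W c ξ) (h' : IsClass W c' ξ') :
    IsClass W (fun i j => c i j + c' i j) (ξ + ξ') := by
  obtain ⟨hcov, y, q, hy, hq, rfl⟩ := h
  obtain ⟨-, y', q', hy', hq', rfl⟩ := h'
  refine ⟨hcov, fun i => y i + y' i, q + q', fun i j => ?_, fun i => ?_, map_add _ _ _⟩
  · rw [map_add, hy, hy', map_add, map_add]; abel
  · rw [map_add, map_add, hq, hq']

theorem IsClass.sub {c c' : ∀ i j, F.obj.obj (op (W i ⊓ W j))} {ξ ξ'} (h : IsClass W c ξ) (h' : IsClass W c' ξ') :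
    IsClass W (fun i j => c i j - c' i j) (ξ - ξ') := by
  obtain ⟨hcov, y, q, hy, hq, rfl⟩ := h
  obtain ⟨-, y', q', hy', hq', rfl⟩ := h'
  refine ⟨hcov, fun i => y i - y' i, q - q', fun i j => ?_, fun i => ?_, map_sub _ _ _⟩
  · rw [map_sub, hy, hy', map_sub, map_sub]; abel
  · rw [map_sub, map_sub, hq, hq']

theorem isClass_coboundary (hcov : iSup W = ⊤) (e : ∀ i, F.obj.obj (op (W i))) :
    IsClass W (fun i j => resA F inf_le_left (e i) - resA F inf_le_right (e j)) 0 := by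
  refine ⟨hcov, fun i => (injEmbed F).f.hom.app _ (e i), 0, fun i j => ?_, fun i => ?_, map_zero _⟩
  · rw [map_sub, resA_app, resA_app]
  · rw [map_zero]; exact sections_comp_eq_zero (S := injEmbed F) _ _

/-- A class vanishes exactly when the cocycle is a coboundary. -/
theorem IsClass.eq_zero_iff {c : ∀ i j, F.obj.obj (op (W i ⊓ W j))} {ξ} (h : IsClass W c ξ) :
    ξ = 0 ↔ IsCoboundary W c := by
  constructor
  · rintro rfl
    obtain ⟨hcov, y, q, hy, hq, hξ⟩ := h
    obtain ⟨s, hs⟩ := (delta_eq_zero_iff q).1 hξ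
    choose e he using fun i => sections_exact (injEmbed_shortExact F) (W i)
      (y i - resA _ le_top s) (by rw [map_sub, resA_app, hs, hq, sub_self])
    haveI := (injEmbed_shortExact F).mono_f
    refine ⟨e, fun i j => sections_injective (injEmbed F).f _ ?_⟩
    rw [map_sub, resA_app, resA_app, he, he, hy, map_sub, map_sub]
    simp only [resA_resA]
    abel
  · rintro ⟨e, he⟩
    rw [show c = fun i j => resA F inf_le_left (e i) - resA F inf_le_right (e j) from funext₂ he] at h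
    exact h.unique (isClass_coboundary h.1 e)

theorem IsClass.map {c : ∀ i j, F.obj.obj (op (W i ⊓ W j))} {ξ} (h : IsClass W c ξ) (φ : F ⟶ G) :
    IsClass W (fun i j => φ.hom.app _ (c i j)) (Sheaf.H.map φ 1 ξ) := by
  obtain ⟨hcov, y, q, hy, hq, rfl⟩ := h
  haveI : Injective (injEmbed G).X₂ := inferInstanceAs (Injective (Injective.under G))
  haveI := (injEmbed_shortExact F).mono_f
  let Φ : (injEmbed F).X₂ ⟶ (injEmbed G).X₂ := Injective.factorThru (φ ≫ (injEmbed G).f) (injEmbed F).f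
  have hΦ : (injEmbed F).f ≫ Φ = φ ≫ (injEmbed G).f := Injective.comp_factorThru _ _
  let Ψ : (injEmbed F).X₃ ⟶ (injEmbed G).X₃ :=
    cokernel.desc (injEmbed F).f (Φ ≫ (injEmbed G).g) (by
      rw [← Category.assoc, hΦ, Category.assoc, (injEmbed G).zero, comp_zero])
  have hΨ : (injEmbed F).g ≫ Ψ = Φ ≫ (injEmbed G).g := cokernel.π_desc _ _ _
  let m : injEmbed F ⟶ injEmbed G := ShortComplex.homMk φ Φ Ψ hΦ.symm hΨ.symm
  have happ : ∀ {A B : CohTop.Ab X} {U : (Opens X)ᵒᵖ} {f g : A ⟶ B} (_ : f = g) (x : A.obj.obj U),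
      f.hom.app U x = g.hom.app U x := by rintro A B U f g rfl x; rfl
  refine ⟨hcov, fun i => Φ.hom.app _ (y i), Ψ.hom.app _ q, fun i j => ?_, fun i => ?_, ?_⟩
  · show (φ ≫ (injEmbed G).f).hom.app _ (c i j) = _
    rw [happ hΦ.symm]
    show Φ.hom.app _ ((injEmbed F).f.hom.app _ (c i j)) = _
    rw [hy, map_sub, resA_app, resA_app]
  · show (Φ ≫ (injEmbed G).g).hom.app _ (y i) = _
    rw [happ hΨ.symm]
    show Ψ.hom.app _ ((injEmbed F).g.hom.app _ (y i)) = _
    rw [hq, resA_app]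
  · show (Ext.mk₀ ((constZEquiv (injEmbed G).X₃).symm (Ψ.hom.app _ q))).comp _ (zero_add 1) =
      ((Ext.mk₀ ((constZEquiv (injEmbed F).X₃).symm q)).comp _ (zero_add 1)).comp (Ext.mk₀ φ) (add_zero 1)
    rw [show (constZEquiv (injEmbed G).X₃).symm (Ψ.hom.app _ q) = (constZEquiv (injEmbed F).X₃).symm q ≫ Ψ from
      (constZEquiv _).injective (by
        rw [AddEquiv.apply_symm_apply, constZEquiv_comp, AddEquiv.apply_symm_apply]),
      ← Ext.mk₀_comp_mk₀, Ext.comp_assoc (a₂₃ := 1) _ _ _ (zero_add 0) (zero_add 1) (by omega),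
      Ext.comp_assoc (a₂₃ := 1) _ _ _ (zero_add 1) (add_zero 1) (by omega)]
    exact congrArg (fun z => (Ext.mk₀ _).comp z (zero_add 1))
      (ShortComplex.ShortExact.extClass_naturality (injEmbed_shortExact F) (injEmbed_shortExact G) m).symm

end

/-- Every class in `H¹` comes from a cocycle. -/
theorem exists_cocycle (ξ : Sheaf.H F 1) :
    ∃ (W : X → Opens X) (_ : ∀ x, x ∈ W x) (c : ∀ i j, F.obj.obj (op (W i ⊓ W j))), IsClass W c ξ := by
  obtain ⟨q, rfl⟩ := delta_surjective F ξ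
  haveI : Epi (injEmbed F).g := (injEmbed_shortExact F).epi_g
  have hloc := (Sheaf.isLocallySurjective_iff_epi' (A := AddCommGrpCat.{u}) (injEmbed F).g).2 inferInstance
  have h : ∀ x : X, ∃ (V : Opens X), x ∈ V ∧ ∃ y, (injEmbed F).g.hom.app (op V) y =
      resA (injEmbed F).X₃ le_top q := fun x => by
    obtain ⟨V, i, ⟨y, hy⟩, hxV⟩ := hloc.imageSieve_mem q x trivial
    exact ⟨V, hxV, y, hy⟩
  choose W hW y hy using h
  haveI := (injEmbed_shortExact F).mono_f
  choose c hc using fun i j => sections_exact (injEmbed_shortExact F) (W i ⊓ W j)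
    (resA _ inf_le_left (y i) - resA _ inf_le_right (y j)) (by
      rw [map_sub, resA_app, resA_app, hy, hy, resA_resA, resA_resA, sub_self])
  exact ⟨W, hW, c, top_le_iff.1 fun x _ => Opens.mem_iSup.2 ⟨x, hW x⟩, y, q, hc, hy, rfl⟩

end Groth.Agent.PicH127
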