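import Groth.Agent.PicH127.Units
import Groth.Agent.SDiv28.Norm.LocFree

/-!
# The norm kills the kernel of pullback to a finite locally free cover
-/

set_option autoImplicit false
set_option linter.style.haveILetI false
set_option backward.isDefEq.respectTransparency.types false
set_option backward.isDefEq.respectTransparency false

universe u

open CategoryTheory CategoryTheory.Limits CategoryTheory.Abelian AlgebraicGeometry Opposite TopologicalSpace
open Groth.Agent.Coherent Groth.Agent.PicLib Groth.Agent.AmpleLib Groth.Agent.PicDef15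

namespace Groth.Agent.PicH127

variable {Z X : Scheme.{u}}

theorem rel_tensorPow {f : Z ⟶ X} {L : Z.Modules} {ξ} (h : Rel f L ξ) :
    ∀ n : ℕ, Rel f (CohB1.tensorPow L n) (n • ξ)
  | 0 => by rw [zero_smul]; exact rel_structure
  | n + 1 => by rw [succ_nsmul]; exact (rel_tensorPow h n).tensor h

variable (f : Z ⟶ X) [IsFinite f] [Flat f] [LocallyOfFinitePresentation f]

/-- The norm on units. -/
noncomputable def normPU : PU f ⟶ PU (𝟙 X) :=
  ⟨{ app := fun U => AddCommGrpCat.ofHom (AddMonoidHom.mk'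
       (fun s => toU (𝟙 X) (U := U.unop) (Units.map (SDiv28.Norm.normHom f U.unop) (ofU f (U := U.unop) s)))
       fun a b => by
         refine ofU_injective (𝟙 X) U.unop ?_
         exact map_mul (Units.map (SDiv28.Norm.normHom f U.unop)) _ _)
     naturality := fun U V i => AddCommGrpCat.hom_ext (AddMonoidHom.ext fun s => ofU_injective (𝟙 X) V.unop
       (Units.ext ((SDiv28.Norm.normishOfFinLocFree f).norm_res i.unop (ofU f (U := U.unop) s).val).symm)) }⟩

theorem comap_normPU (d : ℕ) (hd : ∀ x : X, f.finrank x = d) : comap' f ≫ normPU f = d • 𝟙 (PU (𝟙 X)) := by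
  refine Sheaf.hom_ext (NatTrans.ext (funext fun U => AddCommGrpCat.hom_ext (AddMonoidHom.ext fun s => ?_)))
  have happ : ∀ n : ℕ, (n • 𝟙 (PU (𝟙 X))).hom.app U s = n • s := by
    intro n
    induction n with
    | zero => rw [zero_smul, zero_smul]; rfl
    | succ n ih =>
      rw [succ_nsmul, succ_nsmul, ← ih]
      rfl
  refine Eq.trans ?_ (happ d).symm
  have hof : ∀ n : ℕ, ofU (𝟙 X) (U := U.unop) (n • s) = ofU (𝟙 X) (U := U.unop) s ^ n := by
    intro n
    induction n with
    | zero => rw [zero_smul, pow_zero]; rfl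
    | succ n ih => rw [succ_nsmul, pow_succ, ← ih]; rfl
  refine ofU_injective (𝟙 X) U.unop (Units.ext ?_)
  rw [hof, Units.val_pow_eq_pow_val]
  show SDiv28.Norm.normFun f U.unop (f.app U.unop (show Γ(X, U.unop) from (ofU (𝟙 X) (U := U.unop) s).val)) = _
  refine SDiv28.Norm.eq_of_affine fun V hV h => ?_
  letI := (f.app V).hom.toAlgebra
  haveI := (SDiv28.Norm.finite_projective_app f hV).1
  haveI := (SDiv28.Norm.finite_projective_app f hV).2
  rw [SDiv28.Norm.normFun_spec f _ hV h]
  erw [map_pow]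
  refine Eq.trans (congrArg (SDiv28.Norm.affNorm f hV) ?_)
    (SDiv28.Norm.norm_algebraMap (SDiv28.Norm.presV f hV) d (SDiv28.Norm.rankAtStalk_app f d hd hV) _)
  exact (ConcreteCategory.congr_hom (f.naturality (homOfLE h).op) _).symm

theorem nonempty_tensorPow_iso_of_pullback_trivial (d : ℕ) (hd : ∀ x : X, f.finrank x = d) {L : X.Modules}
    (hL : PicF.IsInvertible L) (htriv : Nonempty ((Scheme.Modules.pullback f).obj L ≅ Coh.structureModule Z)) :
    Nonempty (CohB1.tensorPow L d ≅ Coh.structureModule X) := by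
  obtain ⟨ξ, hξ⟩ := exists_rel (hasTriv_id (X := X)) hL
  have h0 : Sheaf.H.map (comap' f) 1 ξ = 0 := (hξ.pull hL).trivial_iff.1 htriv
  have h1 : Ext.comp ξ (Ext.mk₀ (d • 𝟙 (PU (𝟙 X)))) (add_zero 1) = 0 := by
    rw [← comap_normPU f d hd, ← Ext.mk₀_comp_mk₀,
      ← Ext.comp_assoc (a₁₂ := 1) _ _ _ (add_zero 1) (add_zero 0) (by omega)]
    rw [Sheaf.H.map_apply] at h0
    rw [h0, Ext.zero_comp]
  have h2 : d • ξ = 0 := by
    rw [← h1]
    clear h1
    clear hd
    induction d with
    | zero => rw [zero_smul, zero_smul, Ext.mk₀_zero, Ext.comp_zero]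
    | succ n ih => rw [succ_nsmul, succ_nsmul, Ext.mk₀_add, Ext.comp_add, Ext.comp_mk₀_id, ih]
  exact (rel_tensorPow hξ d).trivial_iff.2 h2

end Groth.Agent.PicH127
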