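import Groth.Agent.PicH127.Seq
import Groth.Agent.CurveRR24.AlgClosed
import Groth.Agent.CurveRR24.BCField
import Groth.Agent.FlatMor12.ScalarFibres
import Groth.Prelude.Def_PicGrp

/-!
# Invertible modules on a union of two closed subschemes

`0 → O_X^× → i_* O_Y^× ⊕ j_* O_Z^× → k_* O_W^× → 0` for `X = Y ∪ Z`, `W = Y ∩ Z`, and its consequences
for the Picard groups.
-/

set_option autoImplicit false
set_option linter.style.haveILetI false
set_option backward.isDefEq.respectTransparency.types false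
set_option backward.isDefEq.respectTransparency false

universe u

open CategoryTheory CategoryTheory.Limits CategoryTheory.Abelian AlgebraicGeometry Opposite TopologicalSpace
open Groth.Agent.Coherent Groth.Agent.PicLib Groth.Agent.AmpleLib Groth.Agent.PicDef15

namespace Groth.Agent.PicH127

section res

variable {Z Z' X : Scheme.{u}} (f : Z ⟶ X) (h : Z' ⟶ X) (g : Z' ⟶ Z) (e : g ≫ f = h)

include e in
theorem le_preimage_of_fac (U : X.Opens) : h ⁻¹ᵁ U ≤ g ⁻¹ᵁ (f ⁻¹ᵁ U) := by subst e; exact le_rfl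

/-- Units pull back along a morphism over `X`. -/
noncomputable def resPU : PU f ⟶ PU h :=
  ⟨{ app := fun U => UnitsSh.unitsFunctor.map (g.appLE (f ⁻¹ᵁ U.unop) (h ⁻¹ᵁ U.unop) (le_preimage_of_fac f h g e U.unop))
     naturality := fun U V i => by
      show UnitsSh.unitsFunctor.map (Z.presheaf.map _) ≫ UnitsSh.unitsFunctor.map _ =
        UnitsSh.unitsFunctor.map _ ≫ UnitsSh.unitsFunctor.map (Z'.presheaf.map _)
      rw [← Functor.map_comp, ← Functor.map_comp, Scheme.Hom.map_appLE, Scheme.Hom.appLE_map] }⟩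

theorem ofU_resPU {U : X.Opens} (s : (PU f).obj.obj (op U)) :
    (ofU h ((resPU f h g e).hom.app (op U) s) : Γ(Z', h ⁻¹ᵁ U)) =
      g.appLE (f ⁻¹ᵁ U) (h ⁻¹ᵁ U) (le_preimage_of_fac f h g e U) (ofU f s : Γ(Z, f ⁻¹ᵁ U)) := rfl

theorem Rel.pullAlong {L : Z.Modules} {ξ} (hL : PicF.IsInvertible L) (hr : Rel f L ξ) :
    Rel h ((Scheme.Modules.pullback g).obj L) (Sheaf.H.map (resPU f h g e) 1 ξ) := by
  obtain ⟨ι, W, s, c, hs, hc, hξ⟩ := hr
  refine ⟨ι, W, fun i => resM _ (le_preimage_of_fac f h g e (W i)) (pullSec g (s i)), _,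
    fun i => (isGen_pullSec g (hs i) hL).restrict _, fun i j => ?_, hξ.map (resPU f h g e)⟩
  rw [resM_resM, resM_resM, ofU_resPU]
  have h1 : resM _ (g.preimage_mono (f.preimage_mono (inf_le_left : W i ⊓ W j ≤ W i))) (pullSec g (s i)) =
      g.app _ (ofU f (c i j) : Γ(Z, f ⁻¹ᵁ (W i ⊓ W j))) •
        resM _ (g.preimage_mono (f.preimage_mono (inf_le_right : W i ⊓ W j ≤ W j))) (pullSec g (s j)) := by
    refine (resM_pullSec g (f.preimage_mono inf_le_left) (s i)).trans ?_
    rw [hc i j, pullSec_smul]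
    exact congrArg _ (resM_pullSec g (f.preimage_mono inf_le_right) (s j)).symm
  have h2 := congrArg (resM ((Scheme.Modules.pullback g).obj L) (le_preimage_of_fac f h g e (W i ⊓ W j))) h1
  rw [resM_resM, resM_smul, resM_resM] at h2
  exact h2

theorem picToH1_pullAlong [PicGrp.Law Z] [PicGrp.Law Z'] (hf : HasTriv f) (hh : HasTriv h) (hg : PicGrp.PullMul g)
    (a : PicLoc.PicSet Z) :
    picToH1 hh (Additive.ofMul (PicGrp.pullHom g hg a)) =
      Sheaf.H.map (resPU f h g e) 1 (picToH1 hf (Additive.ofMul a)) := by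
  obtain ⟨L, hL, rfl⟩ := PicGrp.exists_eq_cls a
  rw [PicGrp.pullHom_cls]
  exact (cls1_eq_iff hh (PicLoc.isInvertible_pullback g hL) _).2 ((cls1_spec hf hL).pullAlong f h g e hL)

theorem comap_comp_resPU : comap' f ≫ resPU f h g e = comap' h := by
  subst e
  refine Sheaf.hom_ext (NatTrans.ext (funext fun U => AddCommGrpCat.hom_ext (AddMonoidHom.ext fun s => ?_)))
  refine ofU_injective (g ≫ f) U.unop (Units.ext ?_)
  show (g.appLE _ _ _) (f.app U.unop _) = (g ≫ f).app U.unop _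
  rw [Scheme.Hom.comp_app]
  erw [Scheme.Hom.appLE_eq_app]
  rfl

end res

theorem hasTriv_of_isClosedImmersion {Z X : Scheme.{u}} (f : Z ⟶ X) [IsClosedImmersion f] : HasTriv f := by
  intro L hL
  obtain ⟨U, s, hm, hs⟩ := exists_cover hL
  have hV : ∀ z, ∃ V : X.Opens, f ⁻¹ᵁ V = U z := fun z => by
    obtain ⟨O, hO, hOe⟩ := f.isClosedEmbedding.isInducing.isOpen_iff.1 (U z).2
    exact ⟨⟨O, hO⟩, Opens.ext hOe⟩
  choose V hV using hV
  let C : X.Opens := ⟨(Set.range f)ᶜ, f.isClosedEmbedding.isClosed_range.isOpen_compl⟩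
  refine ⟨Option Z, fun o => o.elim C V, top_le_iff.1 fun x _ => ?_, fun o => match o with
    | none => 0
    | some z => resM L (hV z).le (s z), fun o => ?_⟩
  · by_cases hx : x ∈ Set.range f
    · obtain ⟨z, rfl⟩ := hx
      exact Opens.mem_iSup.2 ⟨some z, (hV z).ge (hm z)⟩
    · exact Opens.mem_iSup.2 ⟨none, hx⟩
  · match o with
    | some z => exact (hs z).restrict _
    | none =>
      intro T hT
      have hemp : ∀ z, z ∉ T := fun z hz => hT hz ⟨z, rfl⟩
      exact ⟨fun a b _ => TopCat.Presheaf.section_ext Z.sheaf T a b fun z hz => (hemp z hz).elim,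
        fun b => ⟨0, TopCat.Presheaf.section_ext (⟨L.presheaf, L.isSheaf⟩ : TopCat.Sheaf Ab Z) T _ b
          fun z hz => (hemp z hz).elim⟩⟩

section Union

variable {X : Scheme.{u}} (I J : X.IdealSheafData)

/-- The first inclusion of the intersection. -/
noncomputable abbrev inY : (I ⊔ J).subscheme ⟶ I.subscheme :=
  Scheme.IdealSheafData.inclusion (le_sup_left : I ≤ I ⊔ J)

/-- The second inclusion of the intersection. -/
noncomputable abbrev inZ : (I ⊔ J).subscheme ⟶ J.subscheme :=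
  Scheme.IdealSheafData.inclusion (le_sup_right : J ≤ I ⊔ J)

theorem inY_fac : inY I J ≫ I.subschemeι = (I ⊔ J).subschemeι := Scheme.IdealSheafData.inclusion_subschemeι _

theorem inZ_fac : inZ I J ≫ J.subschemeι = (I ⊔ J).subschemeι := Scheme.IdealSheafData.inclusion_subschemeι _

/-- Restriction of units from the first piece. -/
noncomputable abbrev rY : PU I.subschemeι ⟶ PU (I ⊔ J).subschemeι := resPU _ _ (inY I J) (inY_fac I J)

/-- Restriction of units from the second piece. -/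
noncomputable abbrev rZ : PU J.subschemeι ⟶ PU (I ⊔ J).subschemeι := resPU _ _ (inZ I J) (inZ_fac I J)

theorem res_mem' (K : X.IdealSheafData) {U : X.Opens} {a : Γ(X, U)} (ha : K.subschemeι.app U a = 0)
    (W : X.affineOpens) (h : W.1 ≤ U) : PicLib.res h a ∈ K.ideal W := S15747aux.res_mem K ha W h

variable (hIJ : I ⊓ J = ⊥)
include hIJ

theorem eq_zero_of_both {U : X.Opens} (a : Γ(X, U)) (hY : I.subschemeι.app U a = 0)
    (hZ : J.subschemeι.app U a = 0) : a = 0 := by
  refine TopCat.Presheaf.section_ext X.sheaf U a 0 fun x hx => ?_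
  obtain ⟨V, hV, hxV, hVU⟩ := exists_isAffineOpen_mem_and_subset (U := U) hx
  have hm : PicLib.res hVU a ∈ (I ⊓ J).ideal ⟨V, hV⟩ := ⟨res_mem' I hY ⟨V, hV⟩ hVU, res_mem' J hZ ⟨V, hV⟩ hVU⟩
  rw [hIJ] at hm
  have h0 : PicLib.res hVU a = 0 := by simpa using hm
  have h := (VarietyLib.StarGlue.germ_resO hVU hxV a).symm.trans
    ((congrArg (X.presheaf.germ V x hxV) h0).trans (map_zero _))
  exact h.trans (map_zero _).symm

theorem exists_glue_affine {V : X.Opens} (hV : IsAffineOpen V) (a : Γ(I.subscheme, I.subschemeι ⁻¹ᵁ V))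
    (b : Γ(J.subscheme, J.subschemeι ⁻¹ᵁ V))
    (h : (inY I J).appLE (I.subschemeι ⁻¹ᵁ V) ((I ⊔ J).subschemeι ⁻¹ᵁ V) (le_preimage_of_fac _ _ _ (inY_fac I J) V) a =
      (inZ I J).appLE (J.subschemeι ⁻¹ᵁ V) ((I ⊔ J).subschemeι ⁻¹ᵁ V) (le_preimage_of_fac _ _ _ (inZ_fac I J) V) b) :
    ∃ c : Γ(X, V), I.subschemeι.app V c = a ∧ J.subschemeι.app V c = b := by
  obtain ⟨a', rfl⟩ := I.subschemeι.app_surjective V hV a
  obtain ⟨b', rfl⟩ := J.subschemeι.app_surjective V hV b
  have e1 : ∀ {T : Scheme.{u}} (f : T ⟶ X) (h' : (I ⊔ J).subscheme ⟶ T) (e : h' ≫ f = (I ⊔ J).subschemeι) (c : Γ(X, V)),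
      h'.appLE (f ⁻¹ᵁ V) ((I ⊔ J).subschemeι ⁻¹ᵁ V) (le_preimage_of_fac _ _ _ e V) (f.app V c) =
        (I ⊔ J).subschemeι.app V c := by
    intro T f h' e c
    have : ∀ (q : (I ⊔ J).subscheme ⟶ X) (e : h' ≫ f = q),
        h'.appLE (f ⁻¹ᵁ V) (q ⁻¹ᵁ V) (le_preimage_of_fac _ _ _ e V) (f.app V c) = q.app V c := by
      rintro _ rfl
      rw [Scheme.Hom.comp_app]
      erw [Scheme.Hom.appLE_eq_app]
      rfl
    exact this _ e
  rw [e1 _ _ (inY_fac I J), e1 _ _ (inZ_fac I J)] at h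
  have hm : a' - b' ∈ (I ⊔ J).ideal ⟨V, hV⟩ := by
    rw [← (I ⊔ J).ker_subschemeι_app ⟨V, hV⟩, RingHom.mem_ker]
    exact (map_sub _ _ _).trans (sub_eq_zero.2 h)
  rw [show (I ⊔ J).ideal ⟨V, hV⟩ = I.ideal ⟨V, hV⟩ ⊔ J.ideal ⟨V, hV⟩ from rfl, Submodule.mem_sup] at hm
  obtain ⟨x, hx, y, hy, hxy⟩ := hm
  rw [← I.ker_subschemeι_app ⟨V, hV⟩, RingHom.mem_ker] at hx
  rw [← J.ker_subschemeι_app ⟨V, hV⟩, RingHom.mem_ker] at hy
  refine ⟨a' - x, ?_, ?_⟩
  · rw [map_sub]; exact sub_eq_self.2 hx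
  · rw [show a' - x = b' + y by linear_combination -hxy, map_add]; exact add_eq_left.2 hy

theorem eq_of_both {U : X.Opens} {a b : Γ(X, U)} (hY : I.subschemeι.app U a = I.subschemeι.app U b)
    (hZ : J.subschemeι.app U a = J.subschemeι.app U b) : a = b :=
  sub_eq_zero.1 (eq_zero_of_both I J hIJ _ (by rw [map_sub, hY, sub_self]) (by rw [map_sub, hZ, sub_self]))

theorem exists_unit_glue {U : X.Opens} (a : (PU I.subschemeι).obj.obj (op U)) (b : (PU J.subschemeι).obj.obj (op U))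
    (h : (rY I J).hom.app (op U) a = (rZ I J).hom.app (op U) b) :
    ∃ c : (PU (𝟙 X)).obj.obj (op U),
      (comap' I.subschemeι).hom.app (op U) c = a ∧ (comap' J.subschemeι).hom.app (op U) c = b := by
  have hloc : ∀ x : U, ∃ (V : X.Opens) (_ : V ≤ U), x.1 ∈ V ∧ ∃ c : (PU (𝟙 X)).obj.obj (op V),
      (comap' I.subschemeι).hom.app (op V) c = resA _ ‹V ≤ U› a ∧
        (comap' J.subschemeι).hom.app (op V) c = resA _ ‹V ≤ U› b := by
    intro x
    obtain ⟨V, hV, hxV, hVU⟩ := exists_isAffineOpen_mem_and_subset (U := U) x.2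
    have hVU' : V ≤ U := hVU
    have h' : (rY I J).hom.app (op V) (resA _ hVU' a) = (rZ I J).hom.app (op V) (resA _ hVU' b) := by
      rw [resA_app, resA_app, h]
    have h'' : (rY I J).hom.app (op V) (-resA _ hVU' a) = (rZ I J).hom.app (op V) (-resA _ hVU' b) := by
      rw [map_neg, map_neg, h']
    obtain ⟨c, hcY, hcZ⟩ := exists_glue_affine I J hIJ hV _ _
      (congrArg (fun z => (ofU (I ⊔ J).subschemeι z).val) h')
    obtain ⟨d, hdY, hdZ⟩ := exists_glue_affine I J hIJ hV _ _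
      (congrArg (fun z => (ofU (I ⊔ J).subschemeι z).val) h'')
    have hcd : c * d = 1 := eq_of_both I J hIJ
      (by rw [map_mul, hcY, hdY, map_one]; exact (ofU I.subschemeι (resA _ hVU' a)).mul_inv)
      (by rw [map_mul, hcZ, hdZ, map_one]; exact (ofU J.subschemeι (resA _ hVU' b)).mul_inv)
    exact ⟨V, hVU', hxV, toU (𝟙 X) (Units.mkOfMulEqOne c d hcd), ofU_injective _ _ (Units.ext hcY),
      ofU_injective _ _ (Units.ext hcZ)⟩
  choose V hVU hxV c hcY hcZ using hloc
  have hinj : ∀ {W : X.Opens} (p q : (PU (𝟙 X)).obj.obj (op W)),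
      (comap' I.subschemeι).hom.app (op W) p = (comap' I.subschemeι).hom.app (op W) q →
      (comap' J.subschemeι).hom.app (op W) p = (comap' J.subschemeι).hom.app (op W) q → p = q := fun p q h1 h2 =>
    ofU_injective _ _ (Units.ext (eq_of_both I J hIJ
      (congrArg (fun z => (ofU I.subschemeι z).val) h1) (congrArg (fun z => (ofU J.subschemeι z).val) h2)))
  obtain ⟨g, hg, -⟩ := TopCat.Sheaf.existsUnique_gluing' (PU (𝟙 X)) V U (fun x => homOfLE (hVU x))
    (fun x hx => Opens.mem_iSup.2 ⟨⟨x, hx⟩, hxV _⟩) c fun x y => by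
      show resA (PU (𝟙 X)) inf_le_left (c x) = resA (PU (𝟙 X)) inf_le_right (c y)
      refine hinj _ _ ?_ ?_
      · rw [resA_app, resA_app, hcY, hcY, resA_resA, resA_resA]
      · rw [resA_app, resA_app, hcZ, hcZ, resA_resA, resA_resA]
  have hcov : U ≤ iSup V := fun x hx => Opens.mem_iSup.2 ⟨⟨x, hx⟩, hxV _⟩
  refine ⟨g, TopCat.Sheaf.eq_of_locally_eq' (PU I.subschemeι) V U (fun x => homOfLE (hVU x)) hcov _ _ fun x => ?_,
    TopCat.Sheaf.eq_of_locally_eq' (PU J.subschemeι) V U (fun x => homOfLE (hVU x)) hcov _ _ fun x => ?_⟩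
  · show resA _ (hVU x) _ = resA _ (hVU x) a
    rw [← resA_app, show resA _ (hVU x) g = c x from hg x, hcY]
  · show resA _ (hVU x) _ = resA _ (hVU x) b
    rw [← resA_app, show resA _ (hVU x) g = c x from hg x, hcZ]

/-- The units sequence of a union. -/
theorem shortExact_union :
    ∃ w, (ShortComplex.mk (biprod.lift (comap' I.subschemeι) (comap' J.subschemeι))
      (biprod.desc (rY I J) (-rZ I J)) w).ShortExact := by
  have w : biprod.lift (comap' I.subschemeι) (comap' J.subschemeι) ≫ biprod.desc (rY I J) (-rZ I J) = 0 := by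
    rw [biprod.lift_desc, comap_comp_resPU, Preadditive.comp_neg, comap_comp_resPU, add_neg_cancel]
  refine ⟨w, ?_⟩
  have happ : ∀ {A B : CohTop.Ab X.toTopCat} {U : (Opens X)ᵒᵖ} {f g : A ⟶ B} (_ : f = g) (x : A.obj.obj U),
      f.hom.app U x = g.hom.app U x := by rintro A B U f g rfl x; rfl
  have hfst : ∀ (U : (Opens X)ᵒᵖ) (s : (PU (𝟙 X)).obj.obj U),
      (biprod.fst : (PU I.subschemeι ⊞ PU J.subschemeι) ⟶ PU I.subschemeι).hom.app U ((biprod.lift (comap' I.subschemeι) (comap' J.subschemeι)).hom.app U s) =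
        (comap' I.subschemeι).hom.app U s := fun U s => happ (biprod.lift_fst _ _) s
  have hsnd : ∀ (U : (Opens X)ᵒᵖ) (s : (PU (𝟙 X)).obj.obj U),
      (biprod.snd : (PU I.subschemeι ⊞ PU J.subschemeι) ⟶ PU J.subschemeι).hom.app U ((biprod.lift (comap' I.subschemeι) (comap' J.subschemeι)).hom.app U s) =
        (comap' J.subschemeι).hom.app U s := fun U s => happ (biprod.lift_snd _ _) s
  refine S15747aux.shortExact_of_sections _ (fun U a b h => ?_) (fun U y hy => ?_) fun U z x hx => ?_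
  · have h1 := congrArg ((biprod.fst : (PU I.subschemeι ⊞ PU J.subschemeι) ⟶ PU I.subschemeι).hom.app U) h
    have h2 := congrArg ((biprod.snd : (PU I.subschemeι ⊞ PU J.subschemeι) ⟶ PU J.subschemeι).hom.app U) h
    rw [hfst, hfst] at h1
    rw [hsnd, hsnd] at h2
    exact ofU_injective _ _ (Units.ext (eq_of_both I J hIJ
      (congrArg (fun z => (ofU I.subschemeι z).val) h1) (congrArg (fun z => (ofU J.subschemeι z).val) h2)))
  · have hdec : ∀ v : ((PU I.subschemeι) ⊞ (PU J.subschemeι)).obj.obj U,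
        v = (biprod.inl : PU I.subschemeι ⟶ (PU I.subschemeι ⊞ PU J.subschemeι)).hom.app U ((biprod.fst : (PU I.subschemeι ⊞ PU J.subschemeι) ⟶ PU I.subschemeι).hom.app U v) + (biprod.inr : PU J.subschemeι ⟶ (PU I.subschemeι ⊞ PU J.subschemeι)).hom.app U ((biprod.snd : (PU I.subschemeι ⊞ PU J.subschemeι) ⟶ PU J.subschemeι).hom.app U v) := fun v =>
      (happ (biprod.total (X := PU I.subschemeι) (Y := PU J.subschemeι)).symm v)
    change (biprod.desc (rY I J) (-rZ I J)).hom.app U y = 0 at hy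
    rw [hdec y, map_add, show (biprod.desc (rY I J) (-rZ I J)).hom.app U ((biprod.inl : PU I.subschemeι ⟶ (PU I.subschemeι ⊞ PU J.subschemeι)).hom.app U _) = _ from
      happ (biprod.inl_desc (rY I J) (-rZ I J)) ((biprod.fst : (PU I.subschemeι ⊞ PU J.subschemeι) ⟶ PU I.subschemeι).hom.app U y),
      show (biprod.desc (rY I J) (-rZ I J)).hom.app U ((biprod.inr : PU J.subschemeι ⟶ (PU I.subschemeι ⊞ PU J.subschemeι)).hom.app U _) = _ from
      happ (biprod.inr_desc (rY I J) (-rZ I J)) ((biprod.snd : (PU I.subschemeι ⊞ PU J.subschemeι) ⟶ PU J.subschemeι).hom.app U y)] at hy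
    obtain ⟨c, hc1, hc2⟩ := exists_unit_glue I J hIJ (U := U.unop) ((biprod.fst : (PU I.subschemeι ⊞ PU J.subschemeι) ⟶ PU I.subschemeι).hom.app U y)
      ((biprod.snd : (PU I.subschemeι ⊞ PU J.subschemeι) ⟶ PU J.subschemeι).hom.app U y) (add_neg_eq_zero.1 hy)
    refine ⟨c, ?_⟩
    show (biprod.lift (comap' I.subschemeι) (comap' J.subschemeι)).hom.app U c = y
    rw [hdec ((biprod.lift (comap' I.subschemeι) (comap' J.subschemeι)).hom.app U c), hfst, hsnd]
    refine Eq.trans ?_ (hdec y).symm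
    exact congrArg₂ (· + ·) (congrArg _ hc1) (congrArg _ hc2)
  · obtain ⟨V, hV, hxV, hVU⟩ := exists_isAffineOpen_mem_and_subset (U := U) hx
    let k := (I ⊔ J).subschemeι
    let v := ofU k (resA (PU k) (show V ≤ U from hVU) z)
    obtain ⟨a, ha⟩ := k.app_surjective V hV v.val
    obtain ⟨W, hWV, hxW, hau⟩ : ∃ (W : X.Opens) (hWV : W ≤ V), x ∈ W ∧
        ∃ t : (PU (𝟙 X)).obj.obj (op W), (comap' k).hom.app (op W) t =
          resA (PU k) (hWV.trans hVU) z := by
      by_cases hxk : x ∈ Set.range k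
      · obtain ⟨p, hp⟩ := hxk
        have hp' : p ∈ k ⁻¹ᵁ X.basicOpen a := by
          rw [Scheme.preimage_basicOpen, ha, Scheme.basicOpen_of_isUnit _ v.isUnit]
          exact (show k p ∈ V from hp.symm ▸ hxV)
        refine ⟨X.basicOpen a, X.basicOpen_le a, hp ▸ hp',
          toU (𝟙 X) (RingedSpace.isUnit_res_basicOpen X.toRingedSpace a).unit, ofU_injective _ _ (Units.ext ?_)⟩
        show k.app _ (PicLib.res (X.basicOpen_le a) a) = _
        rw [app_res (I ⊔ J) (X.basicOpen_le a) a]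
        erw [ha]
        refine (ofU_res k (X.basicOpen_le a) _).symm.trans ?_
        rw [resA_resA]
      · let C : X.Opens := ⟨(Set.range k)ᶜ, k.isClosedEmbedding.isClosed_range.isOpen_compl⟩
        refine ⟨V ⊓ C, inf_le_left, ⟨hxV, hxk⟩, 0, ofU_injective _ _ (Units.ext ?_)⟩
        exact TopCat.Presheaf.section_ext (I ⊔ J).subscheme.sheaf _ _ _ fun p hp => (hp.2 ⟨p, rfl⟩).elim
    obtain ⟨t, ht⟩ := hau
    refine ⟨W, homOfLE (hWV.trans hVU), hxW, (biprod.inl : PU I.subschemeι ⟶ (PU I.subschemeι ⊞ PU J.subschemeι)).hom.app _ ((comap' I.subschemeι).hom.app _ t), ?_⟩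
    show (biprod.inl ≫ biprod.desc (rY I J) (-rZ I J)).hom.app _ ((comap' I.subschemeι).hom.app _ t) = _
    rw [happ (biprod.inl_desc (rY I J) (-rZ I J))]
    show (comap' I.subschemeι ≫ rY I J).hom.app _ t = _
    rw [happ (comap_comp_resPU I.subschemeι k (inY I J) (inY_fac I J)), ht]

omit hIJ in
theorem bijective_appTop_of_geom {W B : Scheme.{u}} (p : W ⟶ B) [IsProper p] [Flat p] [LocallyOfFinitePresentation p]
    (hfib : ∀ (K : Type u) [Field K] [IsAlgClosed K] (g : Spec (CommRingCat.of K) ⟶ B),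
      IsReduced (pullback p g) ∧ ConnectedSpace ↥(pullback p g)) : Function.Bijective p.appTop := by
  refine FlatMor12.ScalarFibres.bijective_appTop p fun K _ y P a b H => ?_
  let L := AlgebraicClosure K
  let m := Spec.map (CommRingCat.ofHom (algebraMap K L))
  let _ : P.Over (Spec (CommRingCat.of K)) := ⟨b⟩
  haveI : IsProper (P ↘ Spec (CommRingCat.of K)) := MorphismProperty.of_isPullback (P := @IsProper) H inferInstance
  let P' := pullback b m
  let _ : P'.Over (Spec (CommRingCat.of L)) := ⟨pullback.snd b m⟩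
  have hpb : IsPullback (pullback.fst b m) (P' ↘ Spec (CommRingCat.of L)) (P ↘ Spec (CommRingCat.of K)) m :=
    IsPullback.of_hasPullback b m
  haveI : IsProper (P' ↘ Spec (CommRingCat.of L)) := MorphismProperty.of_isPullback (P := @IsProper) hpb inferInstance
  let e := (hpb.paste_horiz H).isoPullback
  obtain ⟨hr, hc⟩ := hfib L (m ≫ y)
  haveI := hr
  haveI := hc
  haveI : IsReduced P' := isReduced_of_isOpenImmersion e.hom
  haveI : ConnectedSpace P' := e.hom.homeomorph.connectedSpace_iff.2 hc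
  haveI := EulerLib.isNoetherian_of_proper (X := P) K
  have h1 : Module.finrank K (GA (baseHom K P) (Coh.structureModule P)) = 1 := by
    rw [← (CurveRR24.hhZero K (Coh.structureModule P)).finrank_eq, ← CurveRR24.finrank_HH_structure_bc hpb 0]
    exact CurveRR24.h0_structure L
  haveI hnt : Nontrivial Γ(P, ⊤) :=
    Module.nontrivial_of_finrank_eq_succ (R := K) (M := GA (baseHom K P) (Coh.structureModule P)) h1
  have h2 : Function.Bijective (baseHom K P) := by
    refine ⟨(baseHom K P).injective, fun t => ?_⟩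
    have hone : (show GA (baseHom K P) (Coh.structureModule P) from (1 : Γ(P, ⊤))) ≠ 0 := fun h =>
      one_ne_zero (α := Γ(P, ⊤)) h
    obtain ⟨r, hr⟩ := exists_smul_eq_of_finrank_eq_one h1 hone t
    exact ⟨r, (mul_one _).symm.trans hr⟩
  have h3 : (baseHom K P : K → Γ(P, ⊤)) = b.appTop ∘ (Scheme.ΓSpecIso (CommRingCat.of K)).inv := rfl
  rw [h3] at h2
  exact (Function.Bijective.of_comp_iff _
    (ConcreteCategory.bijective_of_isIso (Scheme.ΓSpecIso (CommRingCat.of K)).inv)).1 h2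

end Union

end Groth.Agent.PicH127
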